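import Cfsg.Agent.Lib.Helper12.TCG.Fi22Pc728.TabT

/-! relator checks for Fi22Pc728, part 2 (generated, helper12) -/

set_option autoImplicit false
set_option maxRecDepth 100000
set_option Elab.async false

namespace Cfsg.Agent.Lib.Helper12.TCG.Fi22Pc728

open Cfsg.Agent.Lib.Helper12.TC Cfsg.Agent.Lib.Helper12.TCG

theorem hperm1_0 : permPartG 18364758544493064720 TT 1 tN 0 728 = true := by decide +kernel

theorem hperm3_0 : permPartG 18364758544493064720 TT 3 tN 0 728 = true := by decide +kernel

theorem hperm5_0 : permPartG 18364758544493064720 TT 5 tN 0 728 = true := by decide +kernel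

theorem hperm7_0 : permPartG 18364758544493064720 TT 7 tN 0 728 = true := by decide +kernel

theorem hm3 : Fn.marksK TT tN [([0, 4], 2)] = true := by decide +kernel

theorem hm6 : Fn.marksK TT tN [([0, 7], 2)] = true := by decide +kernel

theorem hm9 : Fn.marksK TT tN [([1, 4], 2)] = true := by decide +kernel

theorem hm12 : Fn.marksK TT tN [([1, 7], 2)] = true := by decide +kernel

theorem hm15 : Fn.marksK TT tN [([2, 5], 3)] = true := by decide +kernel

theorem hm18 : Fn.marksK TT tN [([3, 4], 3)] = true := by decide +kernel

theorem hm21 : Fn.marksK TT tN [([3, 7], 2)] = true := by decide +kernel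

theorem hm24 : Fn.marksK TT tN [([4, 7], 3)] = true := by decide +kernel

theorem hm27 : Fn.marksK TT tN [([6, 7], 2)] = true := by decide +kernel

theorem hm31 : Fn.marksK TT tN [([2], 2)] = true := by decide +kernel

theorem hm34 : Fn.marksK TT tN [([5], 2)] = true := by decide +kernel

theorem hm37 : Fn.marksK TT tN [([], 1)] = true := by decide +kernel

end Cfsg.Agent.Lib.Helper12.TCG.Fi22Pc728
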