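import Cfsg.Agent.Lib.Helper12.TCG.Fi22Pc728.Rel0
import Cfsg.Agent.Lib.Helper12.TCG.Fi22Pc728.Rel1
import Cfsg.Agent.Lib.Helper12.TCG.Fi22Pc728.Rel2
import Cfsg.Agent.Lib.Helper12.TCG.Fi22Pc728.Tab
import Cfsg.Agent.Lib.Helper12.Fi22M.PresP8

/-! the permutation representation for Fi22Pc728 (generated, helper12) -/

set_option autoImplicit false
set_option maxRecDepth 100000
set_option linter.unusedSimpArgs false
set_option Elab.async false

namespace Cfsg.Agent.Lib.Helper12.TCG.Fi22Pc728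

open Cfsg.Agent.Lib.Helper12.TC Cfsg.Agent.Lib.Helper12.TCG Cfsg.Agent.Lib.Helper12.Fi22M.PresP8

theorem htN : tN = cN := rfl

theorem hperm0 : permOneG 18364758544493064720 TT 0 tN = true :=
  permOneG_of_OK (permOK_step hperm0_0 rfl
    (permOK_start 18364758544493064720 TT 0 tN))

theorem hperm1 : permOneG 18364758544493064720 TT 1 tN = true :=
  permOneG_of_OK (permOK_step hperm1_0 rfl
    (permOK_start 18364758544493064720 TT 1 tN))

theorem hperm2 : permOneG 18364758544493064720 TT 2 tN = true :=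
  permOneG_of_OK (permOK_step hperm2_0 rfl
    (permOK_start 18364758544493064720 TT 2 tN))

theorem hperm3 : permOneG 18364758544493064720 TT 3 tN = true :=
  permOneG_of_OK (permOK_step hperm3_0 rfl
    (permOK_start 18364758544493064720 TT 3 tN))

theorem hperm4 : permOneG 18364758544493064720 TT 4 tN = true :=
  permOneG_of_OK (permOK_step hperm4_0 rfl
    (permOK_start 18364758544493064720 TT 4 tN))

theorem hperm5 : permOneG 18364758544493064720 TT 5 tN = true :=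
  permOneG_of_OK (permOK_step hperm5_0 rfl
    (permOK_start 18364758544493064720 TT 5 tN))

theorem hperm6 : permOneG 18364758544493064720 TT 6 tN = true :=
  permOneG_of_OK (permOK_step hperm6_0 rfl
    (permOK_start 18364758544493064720 TT 6 tN))

theorem hperm7 : permOneG 18364758544493064720 TT 7 tN = true :=
  permOneG_of_OK (permOK_step hperm7_0 rfl
    (permOK_start 18364758544493064720 TT 7 tN))

theorem hperm : permG cIV TT 8 cN = true := by
  refine permG_of_ones (fun x hx => ?_)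
  interval_cases x
  · exact hperm0
  · exact hperm1
  · exact hperm2
  · exact hperm3
  · exact hperm4
  · exact hperm5
  · exact hperm6
  · exact hperm7

/-- words as powers -/
def specs : List (List ℕ × ℕ) :=
  [([0, 1], 3),
   ([0, 2], 2),
   ([0, 3], 2),
   ([0, 4], 2),
   ([0, 5], 2),
   ([0, 6], 2),
   ([0, 7], 2),
   ([1, 2], 3),
   ([1, 3], 2),
   ([1, 4], 2),
   ([1, 5], 2),
   ([1, 6], 2),
   ([1, 7], 2),
   ([2, 3], 3),
   ([2, 4], 2),
   ([2, 5], 3),
   ([2, 6], 2),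
   ([2, 7], 2),
   ([3, 4], 3),
   ([3, 5], 2),
   ([3, 6], 2),
   ([3, 7], 2),
   ([4, 5], 2),
   ([4, 6], 2),
   ([4, 7], 3),
   ([5, 6], 3),
   ([5, 7], 2),
   ([6, 7], 2),
   ([2, 1, 0, 2, 3, 4, 2, 5, 6], 10),
   ([0], 2),
   ([1], 2),
   ([2], 2),
   ([3], 2),
   ([4], 2),
   ([5], 2),
   ([6], 2),
   ([7], 2),
   ([], 1)]

theorem hspecs : baseL = specs.map (fun s => wpow s.1 s.2) := by
  decide +kernel

theorem hfixall : Fn.FixAll TT tN specs :=
  Fn.fixAll_cons (Fn.fix_of_marksK hm0)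
    (Fn.fixAll_cons (Fn.fix_of_marksK hm1)
    (Fn.fixAll_cons (Fn.fix_of_marksK hm2)
    (Fn.fixAll_cons (Fn.fix_of_marksK hm3)
    (Fn.fixAll_cons (Fn.fix_of_marksK hm4)
    (Fn.fixAll_cons (Fn.fix_of_marksK hm5)
    (Fn.fixAll_cons (Fn.fix_of_marksK hm6)
    (Fn.fixAll_cons (Fn.fix_of_marksK hm7)
    (Fn.fixAll_cons (Fn.fix_of_marksK hm8)
    (Fn.fixAll_cons (Fn.fix_of_marksK hm9)
    (Fn.fixAll_cons (Fn.fix_of_marksK hm10)
    (Fn.fixAll_cons (Fn.fix_of_marksK hm11)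
    (Fn.fixAll_cons (Fn.fix_of_marksK hm12)
    (Fn.fixAll_cons (Fn.fix_of_marksK hm13)
    (Fn.fixAll_cons (Fn.fix_of_marksK hm14)
    (Fn.fixAll_cons (Fn.fix_of_marksK hm15)
    (Fn.fixAll_cons (Fn.fix_of_marksK hm16)
    (Fn.fixAll_cons (Fn.fix_of_marksK hm17)
    (Fn.fixAll_cons (Fn.fix_of_marksK hm18)
    (Fn.fixAll_cons (Fn.fix_of_marksK hm19)
    (Fn.fixAll_cons (Fn.fix_of_marksK hm20)
    (Fn.fixAll_cons (Fn.fix_of_marksK hm21)
    (Fn.fixAll_cons (Fn.fix_of_marksK hm22)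
    (Fn.fixAll_cons (Fn.fix_of_marksK hm23)
    (Fn.fixAll_cons (Fn.fix_of_marksK hm24)
    (Fn.fixAll_cons (Fn.fix_of_marksK hm25)
    (Fn.fixAll_cons (Fn.fix_of_marksK hm26)
    (Fn.fixAll_cons (Fn.fix_of_marksK hm27)
    (Fn.fixAll_cons (Fn.fix_of_marksK hm28)
    (Fn.fixAll_cons (Fn.fix_of_marksK hm29)
    (Fn.fixAll_cons (Fn.fix_of_marksK hm30)
    (Fn.fixAll_cons (Fn.fix_of_marksK hm31)
    (Fn.fixAll_cons (Fn.fix_of_marksK hm32)
    (Fn.fixAll_cons (Fn.fix_of_marksK hm33)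
    (Fn.fixAll_cons (Fn.fix_of_marksK hm34)
    (Fn.fixAll_cons (Fn.fix_of_marksK hm35)
    (Fn.fixAll_cons (Fn.fix_of_marksK hm36)
    (Fn.fixAll_cons (Fn.fix_of_marksK hm37)
    (Fn.fixAll_nil TT tN))))))))))))))))))))))))))))))))))))))

theorem hrels : Fn.relsK TT cN baseL = true := by
  rw [hspecs]
  exact Fn.relsK_of_fixAll hfixall

theorem hsub : Fn.subK TT 8 sw = true := by decide +kernel

theorem htrans : Fn.transK TT 8 cN sw = true := by decide +kernel

end Cfsg.Agent.Lib.Helper12.TCG.Fi22Pc728
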