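import Cfsg.Agent.Lib.Helper12.TCG.Fi22Pc728.TabT

/-! relator checks for Fi22Pc728, part 0 (generated, helper12) -/

set_option autoImplicit false
set_option maxRecDepth 100000
set_option Elab.async false

namespace Cfsg.Agent.Lib.Helper12.TCG.Fi22Pc728

open Cfsg.Agent.Lib.Helper12.TC Cfsg.Agent.Lib.Helper12.TCG

theorem hm0 : Fn.marksK TT tN [([0, 1], 3)] = true := by decide +kernel

theorem hm1 : Fn.marksK TT tN [([0, 2], 2)] = true := by decide +kernel

theorem hm4 : Fn.marksK TT tN [([0, 5], 2)] = true := by decide +kernel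

theorem hm7 : Fn.marksK TT tN [([1, 2], 3)] = true := by decide +kernel

theorem hm10 : Fn.marksK TT tN [([1, 5], 2)] = true := by decide +kernel

theorem hm13 : Fn.marksK TT tN [([2, 3], 3)] = true := by decide +kernel

theorem hm16 : Fn.marksK TT tN [([2, 6], 2)] = true := by decide +kernel

theorem hm19 : Fn.marksK TT tN [([3, 5], 2)] = true := by decide +kernel

theorem hm22 : Fn.marksK TT tN [([4, 5], 2)] = true := by decide +kernel

theorem hm25 : Fn.marksK TT tN [([5, 6], 3)] = true := by decide +kernel

theorem hm28 : Fn.marksK TT tN [([2, 1, 0, 2, 3, 4, 2, 5, 6], 10)] = true := by decide +kernel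

theorem hm29 : Fn.marksK TT tN [([0], 2)] = true := by decide +kernel

theorem hm32 : Fn.marksK TT tN [([3], 2)] = true := by decide +kernel

theorem hm35 : Fn.marksK TT tN [([6], 2)] = true := by decide +kernel

end Cfsg.Agent.Lib.Helper12.TCG.Fi22Pc728
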